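import Mathlib
import Cfsg.Agent.Lib.McLRank3.Comp2
import Cfsg.Agent.S1582

/-!
# The kernel checks for the rank 3 recognition of the McLaughlin group
-/

set_option autoImplicit false
set_option maxRecDepth 1000000

namespace Cfsg.Agent.Lib.McLRank3.Check

open Cfsg.Agent.Lib.Compute.PermCert Cfsg.Agent.Lib.McLRank3.Data Cfsg.Agent.Lib.McLRank3.Comp
  Cfsg.Agent.Lib.McLRank3.Comp2 Cfsg.Agent.Lib.Compute.OutChain Cfsg.Agent.Lib.Compute.OutFinal
  Cfsg.Agent.Lib.Sporadic.McLOut.Data Cfsg.Agent.Lib.Sporadic.McLOut.Check Cfsg.Agent.Lib.Sporadic.McLOut.Main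
  Cfsg.Agent.S1582 Finset

theorem adj_symm : allB (fun x => allB (fun y => adjN x y == adjN y x) 275) 275 = true := by decide +kernel

theorem adj_irr : allB (fun x => !adjN x x) 275 = true := by decide +kernel

/-- The element preserves the graph. -/
def presB (e : Elt) : Bool := allB (fun x => allB (fun y =>
    adjN (get 9 511 e.f x) (get 9 511 e.f y) == adjN x y) 275) 275

theorem pres0 : presB eG0 = true := by decide +kernel
theorem pres1 : presB eG1 = true := by decide +kernel
theorem pres2 : presB eG2 = true := by decide +kernel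
theorem pres3 : presB eG3 = true := by decide +kernel

theorem gens_pres : [eG0, eG1, eG2, eG3].all presB = true := by
  simp only [List.all_cons, List.all_nil, pres0, pres1, pres2, pres3, Bool.and_self]

/-- Membership in the point stabiliser. -/
noncomputable def inP (e : Elt) : Bool :=
  validB 9 511 275 e && siftF 9 511 275 21 2097151 9 (lrlvA.map Prod.fst) (gt 9 511 e) && Nat.beq (gt 9 511 e 0) 0

theorem gy_ok : gyL.all (fun e => inP e && Nat.beq (gt 9 511 e y0) y0) = true := by decide +kernel
theorem gz_ok : gzL.all (fun e => inP e && Nat.beq (gt 9 511 e z0) z0) = true := by decide +kernel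
theorem pp1_ok : pp1.all inP = true := by decide +kernel
theorem pp2_ok : pp2.all inP = true := by decide +kernel
theorem pp3_ok : pp3.all inP = true := by decide +kernel

theorem close_Y1 : closeN es 12 (Nat.pow 2 y0) = Y1M := by decide +kernel
theorem close_Y2 : closeN es 12 (Nat.pow 2 z0) = Y2M := by decide +kernel
theorem close_30 : closeN gyL 12 (Nat.pow 2 y1) = M30 := by decide +kernel
theorem close_81 : closeN gyL 12 (Nat.pow 2 y2) = M81 := by decide +kernel
theorem close_56 : closeN gzL 12 (Nat.pow 2 z1) = M56 := by decide +kernel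
theorem close_105 : closeN gzL 12 (Nat.pow 2 z2) = M105 := by decide +kernel

theorem mask_Y1 : allB (fun j => bit Y1M j == adjN 0 j) 275 = true := by decide +kernel
theorem mask_Y2 : allB (fun j => bit Y2M j == (!Nat.beq j 0 && !adjN 0 j)) 275 = true := by decide +kernel
theorem mask_30 : allB (fun j => bit M30 j == (adjN 0 j && adjN y0 j)) 275 = true := by decide +kernel
theorem mask_81 : allB (fun j => bit M81 j == (adjN 0 j && !Nat.beq j y0 && !adjN y0 j)) 275 = true := by
  decide +kernel
theorem mask_56 : allB (fun j => bit M56 j == (!Nat.beq j 0 && !adjN 0 j && adjN z0 j)) 275 = true := by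
  decide +kernel
theorem mask_105 : allB (fun j => bit M105 j == (!Nat.beq j 0 && !adjN 0 j && !Nat.beq j z0 && !adjN z0 j)) 275 = true := by
  decide +kernel

theorem pts_ok : y0 < 275 ∧ z0 < 275 ∧ y1 < 275 ∧ y2 < 275 ∧ z1 < 275 ∧ z2 < 275 := by decide +kernel

theorem pts_adj : adjN 0 y0 = true ∧ adjN 0 y1 = true ∧ adjN y0 y1 = true ∧ adjN 0 y2 = true ∧ adjN y0 y2 = false ∧
    Nat.beq y0 y2 = false ∧ Nat.beq z0 0 = false ∧ adjN 0 z0 = false ∧ Nat.beq z1 0 = false ∧ adjN 0 z1 = false ∧
    adjN z0 z1 = true ∧ Nat.beq z2 0 = false ∧ adjN 0 z2 = false ∧ adjN z0 z2 = false ∧ Nat.beq z0 z2 = false := by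
  decide +kernel

theorem card_Y1 : (univ.filter (fun y : Fin 275 => adjN 0 y = true)).card = 112 := by decide +kernel
theorem card_Y2 : (univ.filter (fun y : Fin 275 => y ≠ 0 ∧ adjN 0 y = false)).card = 162 := by decide +kernel
theorem card_30 : (univ.filter (fun y : Fin 275 => adjN 0 y = true ∧ adjN y0 y = true)).card = 30 := by decide +kernel
theorem card_81 : (univ.filter (fun y : Fin 275 => adjN 0 y = true ∧ (y : ℕ) ≠ y0 ∧ adjN y0 y = false)).card = 81 := by
  decide +kernel
theorem card_56 : (univ.filter (fun y : Fin 275 => (y ≠ 0 ∧ adjN 0 y = false) ∧ adjN z0 y = true)).card = 56 := by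
  decide +kernel
theorem card_105 : (univ.filter (fun y : Fin 275 =>
    (y ≠ 0 ∧ adjN 0 y = false) ∧ (y : ℕ) ≠ z0 ∧ adjN z0 y = false)).card = 105 := by
  decide +kernel

/-- A point of the second orbit has 56 neighbours in the first. -/
theorem card_mix : (univ.filter (fun y : Fin 275 => adjN 0 y = true ∧ adjN y z0 = true)).card = 56 := by decide +kernel

/-- Two adjacent points of the first orbit have two common neighbours in it. -/
theorem card_cl : ∀ y : Fin 275, adjN 0 y = true → adjN y0 y = true →
    (univ.filter (fun w : Fin 275 => adjN 0 w = true ∧ adjN y0 w = true ∧ adjN y w = true)).card = 2 := by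
  decide +kernel

/-- The points of the second orbit are separated by the first. -/
theorem sep_Y2 : ∀ z' : Fin 275, z' ≠ 0 → adjN 0 z' = false → (z' : ℕ) ≠ z0 →
    ∃ y : Fin 275, adjN 0 y = true ∧ adjN y z0 ≠ adjN y z' := by decide +kernel

/-- A line of the neighbourhood of `0`. -/
def lineOK (l : Nat × Nat × Nat × Nat) : Bool :=
  Nat.blt l.1 275 && Nat.blt l.2.1 275 && Nat.blt l.2.2.1 275 && Nat.blt l.2.2.2 275 &&
  adjN 0 l.1 && adjN 0 l.2.1 && adjN 0 l.2.2.1 && adjN 0 l.2.2.2 &&
  adjN l.1 l.2.1 && adjN l.1 l.2.2.1 && adjN l.1 l.2.2.2 && adjN l.2.1 l.2.2.1 && adjN l.2.1 l.2.2.2 &&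
  adjN l.2.2.1 l.2.2.2

theorem lines_ok : lineL.all lineOK = true := by decide +kernel

theorem ord_nodup : ordL.Nodup := by decide +kernel

theorem ord_all : allB (fun j => bit (maskL ordL) j == adjN 0 j) 275 = true := by decide +kernel

/-- A twist of the neighbourhood. -/
def twistB (e : Elt) (es' : List Elt) : Bool :=
  validB 9 511 275 e &&
  allB (fun j => adjN 0 (get 9 511 e.f j) == adjN 0 j) 275 &&
  allB (fun x => !adjN 0 x || allB (fun y => !adjN 0 y || (adjN (get 9 511 e.f x) (get 9 511 e.f y) == adjN x y)) 275) 275 &&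
  (List.zip es es').all (fun t => allB (fun y => !adjN 0 y ||
    Nat.beq (get 9 511 t.1.f (get 9 511 e.f y)) (get 9 511 e.f (get 9 511 t.2.f y))) 275) &&
  Nat.beq es'.length es.length

theorem tw1 : twistB aE1 pp1 = true := by decide +kernel
theorem tw2 : twistB aE2 pp2 = true := by decide +kernel
theorem tw3 : twistB aE3 pp3 = true := by decide +kernel

theorem cell_cards : (cell [] 0).card = 275 ∧ (cell [0] 22).card = 112 ∧ (cell [22, 0] 23).card = 30 ∧
    (cell [23, 22, 0] 270).card = 2 ∧ (cell [270, 23, 22, 0] 1).card = 27 ∧ (cell [1, 270, 23, 22, 0] 194).card = 2 ∧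
    (cell [194, 1, 270, 23, 22, 0] 3).card = 9 ∧ (cell [3, 194, 1, 270, 23, 22, 0] 20).card = 2 := by
  decide +kernel

theorem cl_ok : clChk clL (maskL [20, 3, 194, 1, 270, 23, 22, 0]) = true := by decide +kernel

theorem cl_all : allB (fun x => bit (maskL ([20, 3, 194, 1, 270, 23, 22, 0] ++ clL)) x) 275 = true := by decide +kernel

end Cfsg.Agent.Lib.McLRank3.Check
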